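import Groth.Agent.Lib.AlgSt.LargestOpen.Trans
import Groth.Agent.Lib.AlgSt.DiagLFT

/-!
# Charts of fibre products with a test scheme
-/

set_option backward.isDefEq.respectTransparency false
set_option backward.isDefEq.respectTransparency.types false

universe u

open CategoryTheory CategoryTheory.Limits AlgebraicGeometry Opposite

namespace GrothLib.AlgSt.LargestOpen

open _root_.AlgSt GrothLib.FibCat GrothLib.AlgSp

variable {S : Scheme.{u}} {𝒳 𝒴 𝒵 : _root_.AlgSt.Cat S} {P Q R : MorphismProperty (AlgSp.Sp S)}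

/-- A morphism of schemes factors as a composite of two maps with `R`. -/
def TwoStep (R : MorphismProperty (AlgSp.Sp S)) {T V : Over S} (c : T ⟶ V) : Prop :=
  ∃ (H : AlgSp.Space S) (q : (AlgSp.yon S).obj T ⟶ H.obj) (b : H.obj ⟶ (AlgSp.yon S).obj V),
    (AlgSp.yon S).map c = q ≫ b ∧ R q ∧ R b

theorem map_sliceHom_chart {𝒜 : BasedCategory (Over S)} {T V : Over S} {H : AlgSp.Space S}
    (e : ofSp H.obj ⥤ᵇ 𝒜) (π : 𝒜 ⥤ᵇ _root_.FibCat.overCat V) (q : (AlgSp.yon S).obj T ⟶ H.obj) :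
    (AlgSp.yon S).map (sliceHom (BasedFunctor.comp (BasedFunctor.comp (ofOverCat T)
      (BasedFunctor.comp (ofSpMap q) e)) π)) = q ≫ spMapOfOver (BasedFunctor.comp e π) := by
  rw [← spMapOfOver_overMap, ← spMapOfOver_congr (whiskerLeftIso (toOverCat T) (isoOverMap _))]
  refine (spMapOfOver_congr (whiskerRightIso (toOverCatCompIso T)
    (BasedFunctor.comp (ofSpMap q) (BasedFunctor.comp e π)))).trans ?_
  exact spMapOfOver_ofSpMap_comp q (BasedFunctor.comp e π)

theorem surjective_points_chart {𝒜 : BasedCategory (Over S)} {T : Over S} {H : AlgSp.Space S}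
    (e : ofSp H.obj ⥤ᵇ 𝒜) (he : _root_.FibCat.IsEquivOver e) (q : (AlgSp.yon S).obj T ⟶ H.obj)
    (qs : AlgSp.RepWith @Surjective q) :
    Function.Surjective (Points.map (BasedFunctor.comp (ofOverCat T) (BasedFunctor.comp (ofSpMap q) e))) := by
  intro p
  obtain ⟨r, rfl⟩ := (points_map_bijective_of_isEquivOver (isFibGrpd_ofSp H.obj) e he).2 p
  obtain ⟨z, hz⟩ := GrothLib.AlgSp.surjective_map_of_repWith qs (toSpPoints r)
  obtain ⟨z', rfl⟩ := toSpPoints_bijective.2 z
  obtain ⟨w, rfl⟩ :=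
    (points_map_bijective_of_isEquivOver (isFibGrpd_overCat T) _ (isEquivOver_ofOverCat T)).2 z'
  refine ⟨w, ?_⟩
  rw [← toSpPoints_map] at hz
  rw [points_map_comp, points_map_comp, toSpPoints_bijective.1 hz]

/-- A scheme chart of `fp yV z` whose first projection is in two steps with `R`. -/
theorem exists_chart {V : Over S} (yV : _root_.FibCat.overCat V ⥤ᵇ 𝒴) (z : 𝒵 ⥤ᵇ 𝒴)
    (hz : RepByAlgSpWith R z)
    (h₂ : ∀ (X Y : AlgSp.Space S) (g : X ⟶ Y), AlgSp.LocP @Smooth g.hom → R g.hom) :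
    ∃ (H : AlgSp.Space S) (e : ofSp H.obj ⥤ᵇ _root_.FibCat.fp yV z) (T : Over S)
      (q : (AlgSp.yon S).obj T ⟶ H.obj),
      _root_.FibCat.IsEquivOver e ∧ R (spMapOfOver (BasedFunctor.comp e (_root_.FibCat.fpFst yV z))) ∧ R q ∧
      Function.Surjective (Points.map (BasedFunctor.comp (ofOverCat T) (BasedFunctor.comp (ofSpMap q) e))) := by
  obtain ⟨H, e, he, hR⟩ := hz V yV
  obtain ⟨T, q, qe, qs⟩ := H.property.atlas
  refine ⟨H, e, T, q, he, hR, h₂ ⟨_, AlgSp.IsAlgSpace.yon_obj T⟩ H (ObjectProperty.homMk q) ?_,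
    surjective_points_chart e he q qs⟩
  exact locP_of_repWith_etale (P := @Smooth) (fun _ _ t (h : Etale t) => (inferInstance : Smooth t)) qe

variable {f : 𝒳 ⥤ᵇ 𝒴}

/-- Largest open subspaces of fibres commute with two-step base change. -/
theorem IsLargest.bc (hPi : IsoInvariant P) (hQb : StableSp Q) (h₄ : H4 P Q R) {V T : Over S}
    {y : _root_.FibCat.overCat V ⥤ᵇ 𝒴} (D : Fib f y) (hQ : Q D.a) {O : Set (AlgSp.Points D.F.obj)}
    (hO : IsLargest P D.a O) (c : T ⟶ V) (hc : TwoStep R c) :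
    IsLargest P (D.bc c).a (AlgSp.Points.map (Limits.pullback.snd ((AlgSp.yon S).map c) D.a) ⁻¹' O) := by
  obtain ⟨H, q, b, hqb, hq, hb⟩ := hc
  rw [D.bc_a c]
  have hV := AlgSp.IsAlgSpace.yon_obj V
  have hT := AlgSp.IsAlgSpace.yon_obj T
  have hB := isAlgSpace_pullback' hV H.property D.F.property b D.a
  have hC := isAlgSpace_pullback' hV hT D.F.property ((AlgSp.yon S).map c) D.a
  have sqb := (IsPullback.of_hasPullback b D.a).flip
  have sqc := (IsPullback.of_hasPullback ((AlgSp.yon S).map c) D.a).flip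
  let m : Limits.pullback ((AlgSp.yon S).map c) D.a ⟶ Limits.pullback b D.a :=
    Limits.pullback.lift (Limits.pullback.fst _ _ ≫ q) (Limits.pullback.snd _ _) (by rw [Category.assoc, ← hqb, Limits.pullback.condition])
  have hm₁ : m ≫ Limits.pullback.fst b D.a = Limits.pullback.fst _ _ ≫ q := Limits.pullback.lift_fst _ _ _
  have hm₂ : m ≫ Limits.pullback.snd b D.a = Limits.pullback.snd _ _ := Limits.pullback.lift_snd _ _ _
  have sqq : IsPullback m (Limits.pullback.fst ((AlgSp.yon S).map c) D.a) (Limits.pullback.fst b D.a) q :=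
    IsPullback.of_right (by rw [hm₂, ← hqb]; exact sqc) hm₁ sqb
  have h1 := hO.pullback h₄ hPi D.F.property hV hB H.property sqb hQ hb
  have h2 := h1.pullback h₄ hPi hB H.property hC hT sqq
    (hQb D.F.property hV hB H.property D.a b _ _ sqb hQ) hq
  rw [show AlgSp.Points.map (Limits.pullback.snd ((AlgSp.yon S).map c) D.a) =
    AlgSp.Points.map (Limits.pullback.snd b D.a) ∘ AlgSp.Points.map m from
      funext fun x => (congrArg (fun t => AlgSp.Points.map t x) hm₂.symm).trans (AlgSp.Points.map_comp _ _ _)]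
  exact h2

theorem exists_fib {T : Over S} {y : _root_.FibCat.overCat T ⥤ᵇ 𝒴} (hf : RepByAlgSpWith Q f) :
    ∃ D : Fib f y, Q D.a :=
  let ⟨F, e, he, h⟩ := hf T y
  ⟨⟨F, e, he⟩, h⟩

end GrothLib.AlgSt.LargestOpen
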