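import Groth.Agent.Lib.AlgSt.LargestOpen.Main
import Groth.Agent.Lib.AlgSt.FpStack

/-!
# Base change of the largest open substack with a property
-/

set_option backward.isDefEq.respectTransparency false
set_option backward.isDefEq.respectTransparency.types false

universe u

open CategoryTheory CategoryTheory.Limits AlgebraicGeometry Opposite

namespace GrothLib.AlgSt.LargestOpen

open _root_.AlgSt GrothLib.FibCat GrothLib.AlgSp

variable {S : Scheme.{u}} {𝒳 𝒴 𝒵 : _root_.AlgSt.Cat S} {P Q R : MorphismProperty (AlgSp.Sp S)} {f : 𝒳 ⥤ᵇ 𝒴}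

theorem openPred_obj_preimage (h𝒳 : _root_.FibCat.IsFibGrpd 𝒳.p) (h𝒵 : _root_.FibCat.IsFibGrpd 𝒵.p)
    (F : 𝒵 ⥤ᵇ 𝒳) (W : Set (Points 𝒳)) (η : 𝒵.obj) :
    openPred W (F.obj η) ↔ openPred (Points.map F ⁻¹' W) η := by
  obtain ⟨y, ey, -⟩ := Yon.exists_functor h𝒵 (U := 𝒵.p.obj η) η rfl
  have e₁ : openPred W (F.obj η) ↔ openPred W ((BasedFunctor.comp y F).obj (Yon.idObj _)) :=
    ⟨fun h => openPred_of_hom (F.map ey.hom) h, fun h => openPred_of_hom (F.map ey.inv) h⟩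
  have e₂ : openPred (Points.map F ⁻¹' W) η ↔ openPred (Points.map F ⁻¹' W) (y.obj (Yon.idObj _)) :=
    ⟨fun h => openPred_of_hom ey.hom h, fun h => openPred_of_hom ey.inv h⟩
  rw [e₁, e₂, openPred_obj_iff h𝒳, openPred_obj_iff h𝒵]
  refine forall_congr' fun t => ?_
  rw [Set.mem_preimage, ofChart_eq_map (BasedFunctor.comp y F), points_map_comp, ← ofChart_eq_map y]

/-- A fibre of a base change as a fibre of the original functor. -/
def Fib.pushPaste {T : Over S} {w : _root_.FibCat.overCat T ⥤ᵇ 𝒵} {z : 𝒵 ⥤ᵇ 𝒴}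
    (E : Fib (_root_.FibCat.fpFst z f) w) : Fib f (BasedFunctor.comp w z) :=
  ⟨E.F, BasedFunctor.comp E.e (Fp.paste f z w), IsEquivOver.comp E.he (Fp.isEquivOver_paste f z w)⟩

theorem Fib.pushPaste_a {T : Over S} {w : _root_.FibCat.overCat T ⥤ᵇ 𝒵} {z : 𝒵 ⥤ᵇ 𝒴}
    (E : Fib (_root_.FibCat.fpFst z f) w) : E.pushPaste.a = E.a := rfl

theorem Fib.pushPaste_toX {T : Over S} {w : _root_.FibCat.overCat T ⥤ᵇ 𝒵} {z : 𝒵 ⥤ᵇ 𝒴}
    (E : Fib (_root_.FibCat.fpFst z f) w) (x : AlgSp.Points E.F.obj) :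
    E.pushPaste.toX x = Points.map (_root_.FibCat.fpSnd z f) (E.toX x) := by
  obtain ⟨r, rfl⟩ := toSpPoints_bijective.2 x
  rw [Fib.toX, Fib.toX, Fib.toFp_toSpPoints]
  erw [Fib.toFp_toSpPoints]
  rw [← points_map_comp, ← points_map_comp, ← points_map_comp]
  rfl

theorem memOn_pushPaste {T : Over S} {w : _root_.FibCat.overCat T ⥤ᵇ 𝒵} {z : 𝒵 ⥤ᵇ 𝒴}
    (E : Fib (_root_.FibCat.fpFst z f) w) (W : Set (Points 𝒳)) :
    MemOn P W E.pushPaste ↔ MemOn P (Points.map (_root_.FibCat.fpSnd z f) ⁻¹' W) E := by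
  have e : E.pushPaste.toX ⁻¹' W = E.toX ⁻¹' (Points.map (_root_.FibCat.fpSnd z f) ⁻¹' W) := by
    ext x
    simp only [Set.mem_preimage, E.pushPaste_toX]
  unfold MemOn
  rw [e, E.pushPaste_a]
  rfl

/-- The part of the fibre product over the largest open substack is the largest one. -/
theorem largest_fp (h𝒳 : IsAlgStack Scheme.fppfPrecoverage 𝒳) (h𝒴 : IsAlgStack Scheme.fppfPrecoverage 𝒴)
    (h𝒵 : IsAlgStack Scheme.fppfPrecoverage 𝒵) (hPb : StableSp P) (hQb : StableSp Q)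
    (h₂ : ∀ (X Y : AlgSp.Space S) (g : X ⟶ Y), AlgSp.LocP @Smooth g.hom → R g.hom) (h₄ : H4 P Q R)
    (hf : RepByAlgSpWith Q f) (z : 𝒵 ⥤ᵇ 𝒴) (hz : RepByAlgSpWith R z) {V : Over S}
    (yV : _root_.FibCat.overCat V ⥤ᵇ 𝒴) (hsu : RepByAlgSpWith AlgSp.IsSurjectiveMor yV) {W : Set (Points 𝒳)}
    (hall : ∀ D : Fib f yV, IsLargest P D.a (D.toX ⁻¹' W))
    {Q₁ : (_root_.FibCat.fp z f).obj → Prop}
    (hfp : IsAlgStack Scheme.fppfPrecoverage (_root_.FibCat.fp z f))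
    (hQ₁ : IsOpenSubstack (_root_.FibCat.fp z f) Q₁ Scheme.fppfPrecoverage)
    (hP₁ : RepByAlgSpWith P (BasedFunctor.comp (subIncl (_root_.FibCat.fp z f) Q₁) (_root_.FibCat.fpFst z f))) :
    Set.range (Points.map (subIncl (_root_.FibCat.fp z f) Q₁)) ⊆ Points.map (_root_.FibCat.fpSnd z f) ⁻¹' W := by
  have g𝒳 := h𝒳.isStack.1
  have g𝒴 := h𝒴.isStack.1
  have g𝒵 := h𝒵.isStack.1
  have hPi := isoInvariant_of_stableSp hPb
  obtain ⟨H, e, T, q, he, hb, hq, hL⟩ := exists_chart yV z hz h₂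
  let L := BasedFunctor.comp (ofOverCat T) (BasedFunctor.comp (ofSpMap q) e)
  let k := BasedFunctor.comp L (_root_.FibCat.fpFst yV z)
  let w := BasedFunctor.comp L (_root_.FibCat.fpSnd yV z)
  have hc : TwoStep R (sliceHom k) := ⟨H, q, _, map_sliceHom_chart e _ q, hq, hb⟩
  obtain ⟨D, hQ⟩ := exists_fib (y := yV) hf
  obtain ⟨E, -⟩ := exists_fib (y := w) (repByAlgSpWith_fpFst z hf)
  let i : BasedFunctor.comp (_root_.AlgSt.overMap (sliceHom k)) yV ≅ BasedFunctor.comp w z :=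
    whiskerRightIso (isoOverMap k).symm yV ≪≫ whiskerLeftIso L (_root_.FibCat.fpIso yV z)
  obtain ⟨φ, hφa, hφ⟩ := E.pushPaste.exists_iso ((D.bc (sliceHom k)).congr i)
  have hO := ((hall D).bc hPi hQb h₄ D hQ _ hc).of_iso hPi (D.bc (sliceHom k)).F.property
    (AlgSp.IsAlgSpace.yon_obj T) φ
  rw [Fib.congr_a, Fib.pushPaste_a] at hφa
  erw [hφa] at hO
  have hU := E.isOpen_preimage_toX hfp (isOpen_range_of_isOpenSubstack hfp hQ₁)
  have hle := hO.max _ (GrothLib.AlgSp.isAlgSpace_openSub E.F.property hU) (GrothLib.AlgSp.repWith_openSubι hU)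
    ((E.hasRep_sub_iff hfp g𝒵 hPi hQ₁).1 (hP₁ T w))
  rw [GrothLib.AlgSp.range_openSubι] at hle
  intro x hx
  obtain ⟨v, hv⟩ := (isSurjective_iff_repByAlgSpWith (isFibGrpd_overCat V) g𝒴 yV
    (repByAlgSp1_of_repByAlgSpWith hsu)).2 hsu (Points.map z (Points.map (_root_.FibCat.fpFst z f) x))
  obtain ⟨h, -, hh⟩ := exists_points_fp g𝒵 (isFibGrpd_overCat V) g𝒴 z yV v _ hv
  obtain ⟨τ, rfl⟩ := hL h
  obtain ⟨ε, -, hε⟩ := exists_points_fp hfp.isStack.1 (isFibGrpd_overCat T) g𝒵 (_root_.FibCat.fpFst z f) w τ x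
    ((points_map_comp L (_root_.FibCat.fpSnd yV z) τ).trans hh)
  obtain ⟨r, rfl⟩ := E.toFp_bijective.2 ε
  have hr := hle (show r ∈ E.toX ⁻¹' Set.range (Points.map (subIncl (_root_.FibCat.fp z f) Q₁)) by
    rw [Set.mem_preimage, show E.toX r = x from hε]; exact hx)
  rw [Set.mem_preimage, Set.mem_preimage, Set.mem_preimage, ← D.bc_toX] at hr
  rw [Set.mem_preimage, ← show E.toX r = x from hε, ← E.pushPaste_toX]
  rw [← (D.bc (sliceHom k)).congr_toX i, Fib.toX, hφ] at hr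
  exact hr

end GrothLib.AlgSt.LargestOpen
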