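import Groth.Agent.Lib.AlgSt.OpenSub
import Groth.Agent.Lib.AlgSt.Mono
import Groth.Agent.Lib.AlgSt.DiagLFT
import Groth.Agent.Lib.AlgSt.LocQ
import Groth.Agent.Lib.AlgSp.OpenSub
import Groth.Prelude.Def_AlgSpCov

/-!
# Fibres of representable functors over test schemes
-/

set_option backward.isDefEq.respectTransparency false
set_option backward.isDefEq.respectTransparency.types false

universe u

open CategoryTheory CategoryTheory.Limits AlgebraicGeometry Opposite

namespace GrothLib.AlgSt.LargestOpen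

open _root_.AlgSt GrothLib.FibCat

variable {S : Scheme.{u}} {𝒳 𝒴 : _root_.AlgSt.Cat S}

/-- A space representing the fibre of `f` over a test scheme. -/
structure Fib (f : 𝒳 ⥤ᵇ 𝒴) {T : Over S} (y : _root_.FibCat.overCat T ⥤ᵇ 𝒴) where
  /-- the space -/
  F : AlgSp.Space S
  /-- the equivalence -/
  e : ofSp F.obj ⥤ᵇ _root_.FibCat.fp y f
  he : _root_.FibCat.IsEquivOver e

namespace Fib

variable {f : 𝒳 ⥤ᵇ 𝒴} {T T' : Over S} {y : _root_.FibCat.overCat T ⥤ᵇ 𝒴}

/-- The projection to the test scheme. -/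
def a (D : Fib f y) : D.F.obj ⟶ (AlgSp.yon S).obj T :=
  spMapOfOver (BasedFunctor.comp D.e (_root_.FibCat.fpFst y f))

/-- The points of the space as points of the fibre product. -/
noncomputable def toFp (D : Fib f y) (z : AlgSp.Points D.F.obj) : Points (_root_.FibCat.fp y f) :=
  Points.map D.e ((Equiv.ofBijective _ (toSpPoints_bijective (F := D.F.obj))).symm z)

theorem toFp_toSpPoints (D : Fib f y) (r : Points (ofSp D.F.obj)) :
    D.toFp (toSpPoints r) = Points.map D.e r := by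
  simp [toFp, Equiv.ofBijective_symm_apply_apply]

theorem toFp_bijective (D : Fib f y) : Function.Bijective D.toFp :=
  (points_map_bijective_of_isEquivOver (isFibGrpd_ofSp D.F.obj) D.e D.he).comp (Equiv.bijective _)

/-- The map to the points of the source. -/
noncomputable def toX (D : Fib f y) (z : AlgSp.Points D.F.obj) : Points 𝒳 :=
  Points.map (_root_.FibCat.fpSnd y f) (D.toFp z)

theorem toX_eq (D : Fib f y) (z : AlgSp.Points D.F.obj) :
    D.toX z = Points.map (BasedFunctor.comp D.e (_root_.FibCat.fpSnd y f))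
      ((Equiv.ofBijective _ (toSpPoints_bijective (F := D.F.obj))).symm z) :=
  (points_map_comp _ _ _).symm

/-- The projection to `T` on points. -/
theorem toScheme_map_a (D : Fib f y) (z : AlgSp.Points D.F.obj) :
    AlgSp.Points.toScheme T (AlgSp.Points.map D.a z) =
      pointOf (Points.map (_root_.FibCat.fpFst y f) (D.toFp z)) := by
  obtain ⟨r, rfl⟩ := toSpPoints_bijective.2 z
  rw [toFp_toSpPoints, ← points_map_comp, pointOf_map]
  rfl

theorem toX_ofPt (D : Fib f y) {R : Over S} (g : (AlgSp.yon S).obj R ⟶ D.F.obj) (t : ↥R.left) :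
    D.toX (AlgSp.Points.ofPt g t) = Points.ofChart (BasedFunctor.comp (ofOverCat R)
      (BasedFunctor.comp (ofSpMap g) (BasedFunctor.comp D.e (_root_.FibCat.fpSnd y f)))) t := by
  rw [AlgSp.Points.ofPt_eq_map_ofScheme]
  obtain ⟨r, hr⟩ := toSpPoints_bijective.2 (AlgSp.Points.schemeEquiv R t)
  obtain ⟨q, rfl⟩ := (points_map_bijective_of_isEquivOver (isFibGrpd_overCat R) _ (isEquivOver_ofOverCat R)).2 r
  have ht : pointOf q = t := (congrArg (AlgSp.Points.toScheme R) hr).trans ((AlgSp.Points.schemeEquiv R).left_inv t)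
  change D.toX (AlgSp.Points.map g (AlgSp.Points.schemeEquiv R t)) = _
  rw [← hr, ← toSpPoints_map, toX, toFp_toSpPoints, ← ht, ← map_eq_ofChart_pointOf]
  simp only [← points_map_comp]
  rfl

/-- Transfer along an isomorphism of test functors. -/
def congr (D : Fib f y) {y' : _root_.FibCat.overCat T ⥤ᵇ 𝒴} (i : y ≅ y') : Fib f y' :=
  ⟨D.F, BasedFunctor.comp D.e (Fp.congr i (Iso.refl f)), IsEquivOver.comp D.he (Fp.isEquivOver_congr _ _)⟩

theorem congr_a (D : Fib f y) {y' : _root_.FibCat.overCat T ⥤ᵇ 𝒴} (i : y ≅ y') : (D.congr i).a = D.a := rfl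

theorem congr_toX (D : Fib f y) {y' : _root_.FibCat.overCat T ⥤ᵇ 𝒴} (i : y ≅ y') (z : AlgSp.Points D.F.obj) :
    (D.congr i).toX z = D.toX z := by
  rw [toX_eq, toX_eq]
  rfl

theorem congr_toFp (D : Fib f y) {y' : _root_.FibCat.overCat T ⥤ᵇ 𝒴} (i : y ≅ y') (z : AlgSp.Points D.F.obj) :
    (D.congr i).toFp z = Points.map (Fp.congr i (Iso.refl f)) (D.toFp z) :=
  points_map_comp _ _ _

/-- Representing spaces are unique. -/
theorem exists_iso (D D' : Fib f y) : ∃ φ : D.F.obj ≅ D'.F.obj, φ.hom ≫ D'.a = D.a ∧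
    ∀ z, D'.toFp (AlgSp.Points.map φ.hom z) = D.toFp z := by
  obtain ⟨e', he', ⟨η⟩, ⟨ε⟩⟩ := IsEquivOver.symm D'.he
  let Φ := BasedFunctor.comp D.e e'
  have := isIso_spHom (IsEquivOver.comp D.he he' : _root_.FibCat.IsEquivOver Φ)
  let i : BasedFunctor.comp (ofSpMap (spHom Φ)) D'.e ≅ D.e :=
    (whiskerRightIso (isoOfSpHom Φ) D'.e).symm ≪≫ whiskerLeftIso D.e ε
  refine ⟨asIso (spHom Φ), ?_, fun z => ?_⟩
  · refine (spMapOfOver_ofSpMap_comp (spHom Φ) _).symm.trans ?_
    exact spMapOfOver_congr (whiskerRightIso i (_root_.FibCat.fpFst y f))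
  · obtain ⟨r, rfl⟩ := toSpPoints_bijective.2 z
    rw [asIso_hom, ← toSpPoints_map, toFp_toSpPoints, toFp_toSpPoints, ← points_map_comp, points_map_congr i]

/-- The pair of projections of the base change. -/
noncomputable def bcPair (D : Fib f y) (c : T' ⟶ T) :
    ofSp (pullback ((AlgSp.yon S).map c) D.a) ⥤ᵇ
      _root_.FibCat.fp (_root_.AlgSt.overMap c) (_root_.FibCat.fpFst y f) :=
  BasedFunctor.comp (spToFp (IsPullback.of_hasPullback ((AlgSp.yon S).map c) D.a).w)
    (Fp.map (toOverCat T') D.e (toOverCat T)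
      (iso_of_spMapOfOver_eq (Φ := BasedFunctor.comp (toOverCat T') (_root_.AlgSt.overMap c))
        (Ψ := BasedFunctor.comp (ofSpMap ((AlgSp.yon S).map c)) (toOverCat T))
        ((spMapOfOver_overMap c).trans (spMapOfOver_toOverCat _).symm)).some
      (isoOfSpMapOfOver (BasedFunctor.comp D.e (_root_.FibCat.fpFst y f))))

theorem isEquivOver_bcPair (D : Fib f y) (c : T' ⟶ T) : _root_.FibCat.IsEquivOver (D.bcPair c) :=
  have := IsEquivOver.full (isEquivOver_toOverCat T)
  have := IsEquivOver.faithful (isEquivOver_toOverCat T)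
  IsEquivOver.comp (isEquivOver_spToFp (IsPullback.of_hasPullback _ _))
    (Fp.isEquivOver_map _ _ _ _ _ (isEquivOver_toOverCat T') D.he)

theorem bcPair_snd (D : Fib f y) (c : T' ⟶ T) :
    BasedFunctor.comp (D.bcPair c) (_root_.FibCat.fpSnd _ _) =
      BasedFunctor.comp (ofSpMap (pullback.snd ((AlgSp.yon S).map c) D.a)) D.e := rfl

/-- Base change to another test scheme. -/
noncomputable def bc (D : Fib f y) (c : T' ⟶ T) :
    Fib f (BasedFunctor.comp (_root_.AlgSt.overMap c) y) where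
  F := ⟨pullback ((AlgSp.yon S).map c) D.a,
    GrothLib.AlgSp.isAlgSpace_pullback' (AlgSp.IsAlgSpace.yon_obj T) (AlgSp.IsAlgSpace.yon_obj T') D.F.property _ _⟩
  e := BasedFunctor.comp (D.bcPair c) (Fp.paste f y (_root_.AlgSt.overMap c))
  he := IsEquivOver.comp (D.isEquivOver_bcPair c) (Fp.isEquivOver_paste f y _)

theorem map_leftMap_paste (c : T' ⟶ T) (P : Points (_root_.FibCat.fp (_root_.AlgSt.overMap c) (_root_.FibCat.fpFst y f))) :
    Points.map (leftMap (_root_.AlgSt.overMap c) y f) (Points.map (Fp.paste f y (_root_.AlgSt.overMap c)) P) =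
      Points.map (_root_.FibCat.fpSnd _ _) P := by
  obtain ⟨o, rfl⟩ := Points.mk_surjective P
  refine Points.sound (rel_of_hom (r := (o.map (Fp.paste f y (_root_.AlgSt.overMap c))).map
    (leftMap (_root_.AlgSt.overMap c) y f)) (p := o.map (_root_.FibCat.fpSnd _ _))
    (Fp.homMk o.obj.obj.iso.hom (𝟙 _) ?_))
  erw [map_refl_iso (F' := y) (G' := f) (_root_.AlgSt.overMap c) (BasedFunctor.id 𝒳)
    ((Fp.paste f y (_root_.AlgSt.overMap c)).obj o.obj)]
  change y.map o.obj.obj.iso.hom ≫ o.obj.obj.snd.obj.iso.hom =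
    (y.map o.obj.obj.iso.hom ≫ o.obj.obj.snd.obj.iso.hom) ≫ f.map (𝟙 _)
  rw [f.map_id]
  exact (Category.comp_id _).symm

theorem bc_a (D : Fib f y) (c : T' ⟶ T) : (D.bc c).a = pullback.fst ((AlgSp.yon S).map c) D.a :=
  spMapOfOver_toOverCat _

theorem bc_toX (D : Fib f y) (c : T' ⟶ T) (z : AlgSp.Points (D.bc c).F.obj) :
    (D.bc c).toX z = D.toX (AlgSp.Points.map (pullback.snd ((AlgSp.yon S).map c) D.a) z) := by
  obtain ⟨r, rfl⟩ := toSpPoints_bijective.2 z
  rw [← toSpPoints_map (F := (D.bc c).F.obj) (pullback.snd ((AlgSp.yon S).map c) D.a) r]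
  rw [toX, toX, toFp_toSpPoints, toFp_toSpPoints, ← points_map_comp, ← points_map_comp, ← points_map_comp]
  rfl

theorem bc_toFp (D : Fib f y) (c : T' ⟶ T) (z : AlgSp.Points (D.bc c).F.obj) :
    D.toFp (AlgSp.Points.map (pullback.snd ((AlgSp.yon S).map c) D.a) z) =
      Points.map (leftMap (_root_.AlgSt.overMap c) y f) ((D.bc c).toFp z) := by
  obtain ⟨r, rfl⟩ := toSpPoints_bijective.2 z
  rw [← toSpPoints_map (F := (D.bc c).F.obj) (pullback.snd ((AlgSp.yon S).map c) D.a) r, toFp_toSpPoints,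
    toFp_toSpPoints]
  refine Eq.trans ?_ (congrArg _ (points_map_comp (D.bcPair c) (Fp.paste f y (_root_.AlgSt.overMap c)) r)).symm
  rw [map_leftMap_paste, ← points_map_comp, ← points_map_comp]
  exact (congrArg (fun Φ => Points.map Φ r) (D.bcPair_snd c)).symm

/-- The image on the source of an open set is open, for smooth test functors. -/
theorem isOpen_image_toX (h𝒳 : _root_.FibCat.IsFibGrpd 𝒳.p) (D : Fib f y)
    (hy : RepByAlgSpWith (AlgSp.LocP @Smooth) y) {O : Set (AlgSp.Points D.F.obj)} (hO : IsOpen O) :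
    IsOpen (D.toX '' O) := by
  obtain ⟨V, q, qe, qs⟩ := D.F.property.atlas
  have hs : RepByAlgSpWith (AlgSp.LocP @Smooth) (BasedFunctor.comp D.e (_root_.FibCat.fpSnd y f)) :=
    repByAlgSpWith_equiv_comp D.e D.he (repByAlgSpWith_fpSnd f hy)
  have hk := repByAlgSpWith_comp_chart (fun _ _ _ _ _ b a hb _ ha => locP_etale_comp b a hb ha) hs
    (BasedFunctor.id (ofSp D.F.obj)) (IsEquivOver.refl _) qe qs
  have hk' : ∀ v, Points.ofChart (BasedFunctor.comp (ofOverCat V)
      (BasedFunctor.comp (ofSpMap q) (BasedFunctor.comp D.e (_root_.FibCat.fpSnd y f)))) v =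
        D.toX (AlgSp.Points.ofPt q v) := fun v => (D.toX_ofPt q v).symm
  have himg : D.toX '' O = Points.ofChart (BasedFunctor.comp (ofOverCat V)
      (BasedFunctor.comp (ofSpMap q) (BasedFunctor.comp D.e (_root_.FibCat.fpSnd y f)))) ''
        (AlgSp.Points.ofPt q ⁻¹' O) := by
    ext x
    constructor
    · rintro ⟨z, hz, rfl⟩
      obtain ⟨v, rfl⟩ := GrothLib.AlgSp.surjective_ofPt_of_repWith qs z
      exact ⟨v, hz, hk' v⟩
    · rintro ⟨v, hv, rfl⟩
      exact ⟨_, hv, (hk' v).symm⟩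
  rw [himg]
  exact isOpenMap_ofChart h𝒳 hk _ (hO.preimage (AlgSp.Points.continuous_ofPt q))

theorem isOpen_preimage_toX (h𝒳 : IsAlgStack Scheme.fppfPrecoverage 𝒳) (D : Fib f y) {W : Set (Points 𝒳)}
    (hW : IsOpen W) : IsOpen (D.toX ⁻¹' W) := by
  refine AlgSp.Points.isOpen_iff.2 fun R g => ?_
  rw [← Set.preimage_comp, show D.toX ∘ AlgSp.Points.ofPt g = Points.ofChart (BasedFunctor.comp (ofOverCat R)
      (BasedFunctor.comp (ofSpMap g) (BasedFunctor.comp D.e (_root_.FibCat.fpSnd y f)))) from funext (D.toX_ofPt g)]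
  exact hW.preimage (continuous_ofChart h𝒳.isStack.1 h𝒳.atlas _)

end Fib

end GrothLib.AlgSt.LargestOpen
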