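import Groth.Agent.Lib.AlgSp.OpenSub
import Groth.Agent.Lib.AlgSt.RepBy
import Groth.Prelude.Def_AlgSpCov

/-!
# The largest open subspace on which a morphism has a property
-/

universe u

open CategoryTheory CategoryTheory.Limits AlgebraicGeometry

namespace GrothLib.AlgSt.LargestOpen

open _root_.AlgSp GrothLib.AlgSp

variable {S : Scheme.{u}} {P Q R : MorphismProperty (Sp S)}

/-- `O` is the set of points of the largest open subspace on which `a` has `P`. -/
structure IsLargest (P : MorphismProperty (Sp S)) {F G : Sp S} (a : F ⟶ G) (O : Set (Points F)) : Prop where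
  isOpen : IsOpen O
  mem : P (openSubι F O ≫ a)
  max : ∀ ⦃W₁ : Sp S⦄ (w₁ : W₁ ⟶ F), IsAlgSpace W₁ → RepWith @IsOpenImmersion w₁ → P (w₁ ≫ a) →
    Set.range (Points.map w₁) ⊆ O

/-- The hypothesis that largest open subspaces exist. -/
abbrev H3 (P Q : MorphismProperty (Sp S)) : Prop :=
  ∀ (X Y : Space S) (f : X ⟶ Y), Q f.hom →
    ∃ (W : Space S) (w : W ⟶ X), (RepWith @IsOpenImmersion w.hom ∧ P (w ≫ f).hom ∧
      ∀ (W₁ : Space S) (w₁ : W₁ ⟶ X), RepWith @IsOpenImmersion w₁.hom → P (w₁ ≫ f).hom →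
        ∃ k : W₁ ⟶ W, k ≫ w = w₁)

/-- The hypothesis that largest open subspaces commute with base change. -/
abbrev H4 (P Q R : MorphismProperty (Sp S)) : Prop :=
  ∀ (X Y X' Y' : Space S) (f : X ⟶ Y) (g : Y' ⟶ Y) (f' : X' ⟶ Y') (g' : X' ⟶ X),
    IsPullback g'.hom f'.hom f.hom g.hom → Q f.hom → R g.hom →
    ∀ (W : Space S) (w : W ⟶ X), (RepWith @IsOpenImmersion w.hom ∧ P (w ≫ f).hom ∧
        ∀ (W₁ : Space S) (w₁ : W₁ ⟶ X), RepWith @IsOpenImmersion w₁.hom → P (w₁ ≫ f).hom →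
          ∃ k : W₁ ⟶ W, k ≫ w = w₁) →
      ∀ (W' : Space S) (w' : W' ⟶ X') (k : W' ⟶ W), IsPullback k.hom w'.hom w.hom g'.hom →
        (RepWith @IsOpenImmersion w'.hom ∧ P (w' ≫ f').hom ∧
        ∀ (W₁ : Space S) (w₁ : W₁ ⟶ X'), RepWith @IsOpenImmersion w₁.hom → P (w₁ ≫ f').hom →
          ∃ k : W₁ ⟶ W', k ≫ w' = w₁)

theorem mem_of_range_eq (hPi : IsoInvariant P) {F G W W' : Sp S} {a : F ⟶ G} {w : W ⟶ F} {w' : W' ⟶ F}
    (hW : IsAlgSpace W) (hG : IsAlgSpace G) (hw : RepWith @IsOpenImmersion w)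
    (hw' : RepWith @IsOpenImmersion w') (e : Set.range (Points.map w) = Set.range (Points.map w'))
    (h : P (w ≫ a)) : P (w' ≫ a) := by
  obtain ⟨e, he⟩ := exists_iso_of_range_eq hw' hw e.symm
  rw [← he, Category.assoc]
  exact hPi hW hG e.hom _ h

namespace IsLargest

variable {F G : Sp S} {a : F ⟶ G} {O O' : Set (Points F)}

theorem mem' (h : IsLargest P a O) (hPi : IsoInvariant P) (hF : IsAlgSpace F) (hG : IsAlgSpace G) {W : Sp S}
    {w : W ⟶ F} (hw : RepWith @IsOpenImmersion w) (hr : Set.range (Points.map w) = O) : P (w ≫ a) :=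
  mem_of_range_eq hPi (isAlgSpace_openSub hF h.isOpen) hG (repWith_openSubι h.isOpen) hw
    (range_openSubι.trans hr.symm) h.mem

theorem unique (hF : IsAlgSpace F) (h : IsLargest P a O) (h' : IsLargest P a O') : O = O' :=
  Set.Subset.antisymm
    ((range_openSubι (F := F)).symm.trans_subset
      (h'.max _ (isAlgSpace_openSub hF h.isOpen) (repWith_openSubι h.isOpen) h.mem))
    ((range_openSubι (F := F)).symm.trans_subset
      (h.max _ (isAlgSpace_openSub hF h'.isOpen) (repWith_openSubι h'.isOpen) h'.mem))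

theorem of_iso (h : IsLargest P a O) (hPi : IsoInvariant P) (hF : IsAlgSpace F) (hG : IsAlgSpace G) {F' : Sp S}
    (φ : F' ≅ F) : IsLargest P (φ.hom ≫ a) (Points.map φ.hom ⁻¹' O) where
  isOpen := h.isOpen.preimage (Points.continuous_map _)
  mem := by
    rw [← Category.assoc]
    refine h.mem' hPi hF hG (repWith_comp (repWith_openSubι (h.isOpen.preimage (Points.continuous_map _)))
      (repWith_iso φ.hom)) ?_
    rw [show Points.map (openSubι F' (Points.map φ.hom ⁻¹' O) ≫ φ.hom) =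
      Points.map φ.hom ∘ Points.map (openSubι F' (Points.map φ.hom ⁻¹' O)) from funext (Points.map_comp _ _),
      Set.range_comp, range_openSubι]
    refine Set.image_preimage_eq _ fun x => ⟨Points.map φ.inv x, ?_⟩
    rw [← Points.map_comp, Iso.inv_hom_id, Points.map_id]
  max W₁ w₁ hW₁ hw₁ hP₁ := by
    rintro _ ⟨x, rfl⟩
    refine h.max (w₁ ≫ φ.hom) hW₁ (repWith_comp hw₁ (repWith_iso φ.hom)) (by rwa [Category.assoc]) ⟨x, ?_⟩
    rw [Points.map_comp]

end IsLargest

theorem exists_isLargest (h₃ : H3 P Q) (hPi : IsoInvariant P) {F G : Sp S} (hF : IsAlgSpace F)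
    (hG : IsAlgSpace G) (a : F ⟶ G) (hQ : Q a) : ∃ O, IsLargest P a O := by
  obtain ⟨W, w, hw, hP, hmax⟩ := h₃ ⟨F, hF⟩ ⟨G, hG⟩ (ObjectProperty.homMk a) hQ
  refine ⟨Set.range (Points.map w.hom), isOpen_range_openImmersion hw, ?_, fun W₁ w₁ hW₁ hw₁ hP₁ => ?_⟩
  · exact mem_of_range_eq hPi W.property hG hw (repWith_openSubι (isOpen_range_openImmersion hw))
      range_openSubι.symm hP
  · obtain ⟨k, hk⟩ := hmax ⟨W₁, hW₁⟩ (ObjectProperty.homMk w₁) hw₁ hP₁
    rintro _ ⟨x, rfl⟩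
    exact ⟨Points.map k.hom x, (Points.map_comp _ _ _).symm.trans
      (congrArg (fun t => Points.map t x) (congrArg (fun t => t.hom) hk))⟩

theorem IsLargest.pullback (h₄ : H4 P Q R) (hPi : IsoInvariant P) {F G F' G' : Sp S} (hF : IsAlgSpace F)
    (hG : IsAlgSpace G) (hF' : IsAlgSpace F') (hG' : IsAlgSpace G') {a : F ⟶ G} {g : G' ⟶ G} {a' : F' ⟶ G'}
    {g' : F' ⟶ F} (sq : IsPullback g' a' a g) (hQ : Q a) (hR : R g) {O : Set (Points F)}
    (h : IsLargest P a O) : IsLargest P a' (Points.map g' ⁻¹' O) := by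
  have hw := repWith_openSubι h.isOpen
  have hW := isAlgSpace_openSub hF h.isOpen
  have sq' := IsPullback.of_hasPullback (openSubι F O) g'
  have hW' := isAlgSpace_pullback' hF hW hF' (openSubι F O) g'
  have hw' : RepWith @IsOpenImmersion (Limits.pullback.snd (openSubι F O) g') := repWith_of_isPullback sq' hw
  have hr : Set.range (Points.map (Limits.pullback.snd (openSubι F O) g')) = Points.map g' ⁻¹' O := by
    apply Set.Subset.antisymm
    · rintro _ ⟨x, rfl⟩
      rw [Set.mem_preimage, ← Points.map_comp, ← pullback.condition, Points.map_comp]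
      exact range_openSubι.subset ⟨_, rfl⟩
    · intro x hx
      obtain ⟨y, hy⟩ := (range_openSubι (F := F) (W := O)).symm.subset (show Points.map g' x ∈ O from hx)
      obtain ⟨p, -, hp⟩ := exists_of_isPullback sq' hy
      exact ⟨p, hp⟩
  obtain ⟨-, hP', hmax'⟩ := h₄ ⟨F, hF⟩ ⟨G, hG⟩ ⟨F', hF'⟩ ⟨G', hG'⟩ (ObjectProperty.homMk a)
    (ObjectProperty.homMk g) (ObjectProperty.homMk a') (ObjectProperty.homMk g') sq hQ hR
    ⟨openSub F O, hW⟩ (ObjectProperty.homMk (openSubι F O))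
    ⟨hw, h.mem, fun W₁ w₁ hw₁ hP₁ => by
      obtain ⟨k, hk⟩ := (exists_factor_iff hw w₁.hom).2
        ((h.max _ W₁.property hw₁ hP₁).trans range_openSubι.symm.subset)
      exact ⟨ObjectProperty.homMk k, ObjectProperty.hom_ext _ hk⟩⟩
    ⟨Limits.pullback (openSubι F O) g', hW'⟩ (ObjectProperty.homMk (Limits.pullback.snd _ _))
    (ObjectProperty.homMk (Limits.pullback.fst _ _)) sq'
  refine ⟨h.isOpen.preimage (Points.continuous_map _), ?_, fun W₁ w₁ hW₁ hw₁ hP₁ => ?_⟩
  · exact mem_of_range_eq hPi hW' hG' hw' (repWith_openSubι (h.isOpen.preimage (Points.continuous_map _)))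
      (hr.trans range_openSubι.symm) hP'
  · obtain ⟨k, hk⟩ := hmax' ⟨W₁, hW₁⟩ (ObjectProperty.homMk w₁) hw₁ hP₁
    rw [← hr]
    rintro _ ⟨x, rfl⟩
    exact ⟨Points.map k.hom x, (Points.map_comp _ _ _).symm.trans
      (congrArg (fun t => Points.map t x) (congrArg (fun t => t.hom) hk))⟩

end GrothLib.AlgSt.LargestOpen
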