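import Groth.Agent.Lib.AlgSt.LargestOpen.Sat

/-!
# The largest open substack with a property
-/

set_option backward.isDefEq.respectTransparency false
set_option backward.isDefEq.respectTransparency.types false

universe u

open CategoryTheory CategoryTheory.Limits AlgebraicGeometry Opposite

namespace GrothLib.AlgSt.LargestOpen

open _root_.AlgSt GrothLib.FibCat GrothLib.AlgSp

variable {S : Scheme.{u}} {𝒳 𝒴 : _root_.AlgSt.Cat S} {P Q R : MorphismProperty (AlgSp.Sp S)} {f : 𝒳 ⥤ᵇ 𝒴}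

/-- `W` is the open set of points of the largest open substack on which `f` has `P`: every smooth surjective
test scheme sees it as the largest open subspace of the fibre. -/
theorem exists_largest_points (h𝒳 : IsAlgStack Scheme.fppfPrecoverage 𝒳)
    (h𝒴 : IsAlgStack Scheme.fppfPrecoverage 𝒴) (hPb : StableSp P) (hQb : StableSp Q)
    (hd : DescendsToSchemes P) (h₂ : ∀ (X Y : AlgSp.Space S) (g : X ⟶ Y), AlgSp.LocP @Smooth g.hom → R g.hom)
    (h₃ : H3 P Q) (h₄ : H4 P Q R) (hf : RepByAlgSpWith Q f) {V : Over S}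
    (yV : _root_.FibCat.overCat V ⥤ᵇ 𝒴) (hsm : RepByAlgSpWith (AlgSp.LocP @Smooth) yV)
    (hsu : RepByAlgSpWith AlgSp.IsSurjectiveMor yV) :
    ∃ W : Set (Points 𝒳), IsOpen W ∧
      (∀ (D : Fib f yV), IsLargest P D.a (D.toX ⁻¹' W)) ∧
      RepByAlgSpWith P (BasedFunctor.comp (subIncl 𝒳 (openPred W)) f) ∧
      ∀ Q₁ : 𝒳.obj → Prop, IsOpenSubstack 𝒳 Q₁ Scheme.fppfPrecoverage →
        RepByAlgSpWith P (BasedFunctor.comp (subIncl 𝒳 Q₁) f) → Set.range (Points.map (subIncl 𝒳 Q₁)) ⊆ W := by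
  have g𝒳 := h𝒳.isStack.1
  have g𝒴 := h𝒴.isStack.1
  have hPi := isoInvariant_of_stableSp hPb
  have hV := AlgSp.IsAlgSpace.yon_obj V
  obtain ⟨D, hQ⟩ := exists_fib (y := yV) hf
  obtain ⟨O, hO⟩ := exists_isLargest h₃ hPi D.F.property hV D.a hQ
  have hsat := preimage_image_of_isLargest h𝒳 h𝒴 hPi hQb h₂ h₄ yV hsm D hQ hO
  have hW : IsOpen (D.toX '' O) := D.isOpen_image_toX g𝒳 hsm hO.isOpen
  have hall : ∀ D' : Fib f yV, IsLargest P D'.a (D'.toX ⁻¹' (D.toX '' O)) := fun D' => by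
    obtain ⟨φ, ha, hφ⟩ := D'.exists_iso D
    have h := hO.of_iso hPi D.F.property hV φ
    rw [ha] at h
    convert h using 1
    ext x
    rw [Set.mem_preimage, Set.mem_preimage, show D'.toX x = D.toX (AlgSp.Points.map φ.hom x) from
      congrArg (Points.map _) (hφ x).symm]
    exact Set.ext_iff.1 hsat _
  refine ⟨D.toX '' O, hW, hall, ?_, ?_⟩
  · intro T y
    have hsub := isOpenSubstack_openPred h𝒳 hW
    obtain ⟨E, -⟩ := exists_fib (y := y) hf
    refine (E.hasRep_sub_iff h𝒳 g𝒴 hPi hsub).2 ?_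
    rw [range_points_map_subIncl_openPred g𝒳]
    change MemOn P (D.toX '' O) E
    obtain ⟨T', c, l, hcs, hcj, ⟨j⟩⟩ := exists_lift_chart y yV hsm hsu
    refine MemOn.descend E c h𝒳 hPi hd hW inferInstance inferInstance hcj ?_
    have h1 : MemOn P (D.toX '' O) (D.bc l) :=
      MemOn.bc D l h𝒳 hPb hW (hall D).mem
    exact (MemOn.congr _ j).1 (h1.of_iso h𝒳 hPi hW _ _)
  · intro Q₁ hQ₁ hP₁ x hx
    obtain ⟨v, hv⟩ := (isSurjective_iff_repByAlgSpWith (isFibGrpd_overCat V) g𝒴 yV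
      (repByAlgSp1_of_repByAlgSpWith hsm)).2 hsu (Points.map f x)
    obtain ⟨q, -, hq⟩ := exists_points_fp g𝒳 (isFibGrpd_overCat V) g𝒴 f yV v x hv
    obtain ⟨w, rfl⟩ := D.toFp_bijective.2 q
    have hP := (D.hasRep_sub_iff h𝒳 g𝒴 hPi hQ₁).1 (hP₁ V yV)
    have hU := D.isOpen_preimage_toX h𝒳 (isOpen_range_of_isOpenSubstack h𝒳 hQ₁)
    have hle := hO.max _ (GrothLib.AlgSp.isAlgSpace_openSub D.F.property hU)
      (GrothLib.AlgSp.repWith_openSubι hU) hP
    rw [GrothLib.AlgSp.range_openSubι] at hle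
    refine ⟨w, hle ?_, hq⟩
    rw [Set.mem_preimage, show D.toX w = x from hq]
    exact hx

end GrothLib.AlgSt.LargestOpen
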