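import Groth.Agent.Lib.AlgSt.LargestOpen.Fib

/-!
# Pairs of points of a fibre with the same image
-/

set_option backward.isDefEq.respectTransparency false
set_option backward.isDefEq.respectTransparency.types false

universe u

open CategoryTheory CategoryTheory.Limits AlgebraicGeometry Opposite

namespace GrothLib.AlgSt.LargestOpen

open _root_.AlgSt GrothLib.FibCat

variable {S : Scheme.{u}} {𝒳 𝒴 : _root_.AlgSt.Cat S} (f : 𝒳 ⥤ᵇ 𝒴) {V T : Over S}
  (yV : _root_.FibCat.overCat V ⥤ᵇ 𝒴)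

/-- The map from pairs in the fibre over the same object to pairs in the base. -/
def pairBase : _root_.FibCat.fp (_root_.FibCat.fpSnd yV f) (_root_.FibCat.fpSnd yV f) ⥤ᵇ _root_.FibCat.fp yV yV :=
  _root_.FibCat.fpLift (BasedFunctor.comp (_root_.FibCat.fpFst _ _) (_root_.FibCat.fpFst yV f))
    (BasedFunctor.comp (_root_.FibCat.fpSnd _ _) (_root_.FibCat.fpFst yV f))
    (whiskerLeftIso (_root_.FibCat.fpFst _ _) (_root_.FibCat.fpIso yV f) ≪≫
      whiskerRightIso (_root_.FibCat.fpIso (_root_.FibCat.fpSnd yV f) (_root_.FibCat.fpSnd yV f)) f ≪≫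
      (whiskerLeftIso (_root_.FibCat.fpSnd _ _) (_root_.FibCat.fpIso yV f)).symm)

theorem exists_point_of_pairBase (h𝒳 : _root_.FibCat.IsFibGrpd 𝒳.p) (h𝒴 : _root_.FibCat.IsFibGrpd 𝒴.p)
    (L : _root_.FibCat.overCat T ⥤ᵇ _root_.FibCat.fp yV yV)
    (ω : Points (_root_.FibCat.fp (_root_.FibCat.fpSnd yV f) (_root_.FibCat.fpSnd yV f)))
    (hω : Points.map (pairBase f yV) ω ∈ Set.range (Points.map L)) :
    ∃ P : Points (_root_.FibCat.fp (BasedFunctor.comp (BasedFunctor.comp L (_root_.FibCat.fpFst yV yV)) yV) f),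
      Points.map (leftMap (BasedFunctor.comp L (_root_.FibCat.fpFst yV yV)) yV f) P =
          Points.map (_root_.FibCat.fpFst _ _) ω ∧
      Points.map (leftMap (BasedFunctor.comp L (_root_.FibCat.fpSnd yV yV)) yV f)
          (Points.map (Fp.congr (whiskerLeftIso L (_root_.FibCat.fpIso yV yV)) (Iso.refl f)) P) =
          Points.map (_root_.FibCat.fpSnd _ _) ω := by
  obtain ⟨τ, hτ⟩ := hω
  have g𝒜 := Fp.isFibGrpd (F := yV) (G := f) (isFibGrpd_overCat V) h𝒳 h𝒴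
  obtain ⟨κ, -, hκ⟩ := exists_points_fp (Fp.isFibGrpd g𝒜 g𝒜 h𝒳) (isFibGrpd_overCat T)
    (Fp.isFibGrpd (isFibGrpd_overCat V) (isFibGrpd_overCat V) h𝒴) (pairBase f yV) L τ ω hτ
  obtain ⟨⟨K, str, o, ho⟩, rfl⟩ := Points.mk_surjective κ
  subst hκ
  let t := o.obj.fst
  let d := o.obj.snd
  let d₁ := d.obj.fst
  let d₂ := d.obj.snd
  let ξ : L.obj t ≅ (pairBase f yV).obj d := o.obj.iso
  have hξ : (_root_.FibCat.fp yV yV).p.IsHomLift (𝟙 ((_root_.FibCat.overCat T).p.obj t)) ξ.hom := Fp.iso_lift o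
  let ξ₁ : (L.obj t).obj.fst ≅ d₁.obj.fst := (_root_.FibCat.fpFst yV yV).toFunctor.mapIso ξ
  let ξ₂ : (L.obj t).obj.snd ≅ d₂.obj.fst := (_root_.FibCat.fpSnd yV yV).toFunctor.mapIso ξ
  let iP : (BasedFunctor.comp (BasedFunctor.comp L (_root_.FibCat.fpFst yV yV)) yV).obj t ≅ f.obj d₁.obj.snd :=
    yV.toFunctor.mapIso ξ₁ ≪≫ d₁.obj.iso
  let P₀ : (_root_.FibCat.fp (BasedFunctor.comp (BasedFunctor.comp L (_root_.FibCat.fpFst yV yV)) yV) f).obj :=
    Fp.mk t d₁.obj.snd iP (by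
      have h1 : (_root_.FibCat.overCat V).p.IsHomLift (𝟙 ((_root_.FibCat.overCat T).p.obj t)) ξ₁.hom :=
        BasedFunctor.preserves_isHomLift (_root_.FibCat.fpFst yV yV) _ ξ.hom
      have h2 : 𝒴.p.IsHomLift (𝟙 ((_root_.FibCat.overCat T).p.obj t)) (yV.map ξ₁.hom) :=
        BasedFunctor.preserves_isHomLift yV _ _
      have h3 : 𝒴.p.IsHomLift (𝟙 ((_root_.FibCat.overCat T).p.obj t)) d₁.obj.iso.hom := by
        have e : (_root_.FibCat.overCat V).p.obj d₁.obj.fst = (_root_.FibCat.overCat T).p.obj t :=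
          IsHomLift.codomain_eq (_root_.FibCat.overCat V).p (𝟙 _) ξ₁.hom
        rw [← e]; exact Fp.iso_lift d₁
      change 𝒴.p.IsHomLift _ (yV.map ξ₁.hom ≫ d₁.obj.iso.hom)
      infer_instance)
  refine ⟨Points.mk ⟨K, str, P₀, ho⟩, ?_, ?_⟩
  · refine Points.sound (rel_of_hom (r := FPt.map (leftMap _ yV f) ⟨K, str, P₀, ho⟩) (Fp.homMk ξ₁.hom (𝟙 _) ?_))
    erw [map_refl_iso (F' := yV) (G' := f) _ (BasedFunctor.id 𝒳) P₀]
    rw [f.map_id]
    exact (Category.comp_id _).symm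
  · refine Points.sound (rel_of_hom (r := FPt.map (leftMap _ yV f) (FPt.map (Fp.congr _ _) ⟨K, str, P₀, ho⟩))
      (Fp.homMk ξ₂.hom d.obj.iso.hom ?_))
    erw [map_refl_iso (F' := yV) (G' := f) _ (BasedFunctor.id 𝒳)]
    have w : yV.map ξ₁.hom ≫ ((pairBase f yV).obj d).obj.iso.hom = (L.obj t).obj.iso.hom ≫ yV.map ξ₂.hom :=
      Fp.w ξ.hom
    change yV.map ξ₂.hom ≫ d₂.obj.iso.hom =
      ((L.obj t).obj.iso.inv ≫ (yV.map ξ₁.hom ≫ d₁.obj.iso.hom) ≫ 𝟙 _) ≫ f.map d.obj.iso.hom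
    change yV.map ξ₁.hom ≫ d₁.obj.iso.hom ≫ f.map d.obj.iso.hom ≫ d₂.obj.iso.inv = _ at w
    simp only [Category.assoc, Category.id_comp]
    rw [← Iso.inv_comp_eq] at w
    rw [← w]
    simp

end GrothLib.AlgSt.LargestOpen
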