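import Groth.Agent.Lib.AlgSt.LargestOpen.Chart
import Groth.Agent.Lib.AlgSt.LargestOpen.Pairs

/-!
# The largest open set of a smooth fibre is saturated
-/

set_option backward.isDefEq.respectTransparency false
set_option backward.isDefEq.respectTransparency.types false

universe u

open CategoryTheory CategoryTheory.Limits AlgebraicGeometry Opposite

namespace GrothLib.AlgSt.LargestOpen

open _root_.AlgSt GrothLib.FibCat GrothLib.AlgSp

variable {S : Scheme.{u}} {𝒳 𝒴 : _root_.AlgSt.Cat S} {P Q R : MorphismProperty (AlgSp.Sp S)} {f : 𝒳 ⥤ᵇ 𝒴}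

theorem map_leftMap_congr {𝒜 𝒱 : _root_.AlgSt.Cat S} {a a' : 𝒜 ⥤ᵇ 𝒱} (j : a ≅ a') (F : 𝒱 ⥤ᵇ 𝒴)
    (p : Points (_root_.FibCat.fp (BasedFunctor.comp a F) f)) :
    Points.map (leftMap a' F f) (Points.map (Fp.congr (whiskerRightIso j F) (Iso.refl f)) p) =
      Points.map (leftMap a F f) p := by
  obtain ⟨o, rfl⟩ := Points.mk_surjective p
  refine (Points.sound (rel_of_hom (r := o.map (leftMap a F f))
    (p := (o.map (Fp.congr (whiskerRightIso j F) (Iso.refl f))).map (leftMap a' F f))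
    (Fp.homMk (j.hom.toNatTrans.app o.obj.obj.fst) (𝟙 _) ?_))).symm
  erw [map_refl_iso (F' := F) (G' := f) a (BasedFunctor.id 𝒳) o.obj,
    map_refl_iso (F' := F) (G' := f) a' (BasedFunctor.id 𝒳)]
  change F.map (j.hom.toNatTrans.app o.obj.obj.fst) ≫
      (F.map (j.inv.toNatTrans.app o.obj.obj.fst) ≫ o.obj.obj.iso.hom ≫ 𝟙 _) =
    o.obj.obj.iso.hom ≫ f.map (𝟙 _)
  rw [← Category.assoc, ← F.toFunctor.map_comp, Category.comp_id, f.map_id, Category.comp_id]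
  have h : j.hom.toNatTrans.app o.obj.obj.fst ≫ j.inv.toNatTrans.app o.obj.obj.fst = 𝟙 _ :=
    congrArg (fun t => t.toNatTrans.app o.obj.obj.fst) j.hom_inv_id
  rw [h]
  simp

/-- A chart of pairs in a smooth test scheme, with both projections in two steps with `R`. -/
theorem exists_pair_chart (h₂ : ∀ (X Y : AlgSp.Space S) (g : X ⟶ Y), AlgSp.LocP @Smooth g.hom → R g.hom)
    {V : Over S} (yV : _root_.FibCat.overCat V ⥤ᵇ 𝒴) (hsm : RepByAlgSpWith (AlgSp.LocP @Smooth) yV) :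
    ∃ (T : Over S) (L : _root_.FibCat.overCat T ⥤ᵇ _root_.FibCat.fp yV yV),
      Function.Surjective (Points.map L) ∧
      TwoStep R (sliceHom (BasedFunctor.comp L (_root_.FibCat.fpFst yV yV))) ∧
      TwoStep R (sliceHom (BasedFunctor.comp L (_root_.FibCat.fpSnd yV yV))) := by
  obtain ⟨H, e, T, q, he, hb, hq, hL⟩ := exists_chart (R := AlgSp.LocP @Smooth) yV yV hsm fun _ _ _ h => h
  refine ⟨T, _, hL, ?_, ?_⟩
  · exact ⟨H, q, _, map_sliceHom_chart e _ q,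
      h₂ ⟨_, AlgSp.IsAlgSpace.yon_obj T⟩ H (ObjectProperty.homMk q) hq,
      h₂ H ⟨_, AlgSp.IsAlgSpace.yon_obj V⟩ (ObjectProperty.homMk _) hb⟩
  · let D₂ : Fib yV yV := ⟨H, BasedFunctor.comp e (Fp.symm yV yV), IsEquivOver.comp he (Fp.isEquivOver_symm yV yV)⟩
    exact ⟨H, q, _, map_sliceHom_chart e _ q,
      h₂ ⟨_, AlgSp.IsAlgSpace.yon_obj T⟩ H (ObjectProperty.homMk q) hq,
      h₂ H ⟨_, AlgSp.IsAlgSpace.yon_obj V⟩ (ObjectProperty.homMk _) (D₂.mem isoInvariant_locP (hsm _ yV))⟩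

theorem toFp_snd {T V : Over S} {yV : _root_.FibCat.overCat V ⥤ᵇ 𝒴} (D : Fib f yV) (c : T ⟶ V)
    {k : _root_.FibCat.overCat T ⥤ᵇ _root_.FibCat.overCat V} (j : _root_.AlgSt.overMap c ≅ k)
    (w : AlgSp.Points (D.bc c).F.obj) :
    D.toFp (AlgSp.Points.map (pullback.snd ((AlgSp.yon S).map c) D.a) w) =
      Points.map (leftMap k yV f) (((D.bc c).congr (whiskerRightIso j yV)).toFp w) := by
  rw [D.bc_toFp, (D.bc c).congr_toFp]
  exact (map_leftMap_congr j yV _).symm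

theorem mem_of_pair (hPi : IsoInvariant P) (hQb : StableSp Q) (h₄ : H4 P Q R) {T V : Over S}
    {yV : _root_.FibCat.overCat V ⥤ᵇ 𝒴} (D : Fib f yV) (hQ : Q D.a) {O : Set (AlgSp.Points D.F.obj)}
    (hO : IsLargest P D.a O) {c₁ c₂ : T ⟶ V} (hc₁ : TwoStep R c₁) (hc₂ : TwoStep R c₂)
    {k₁ k₂ : _root_.FibCat.overCat T ⥤ᵇ _root_.FibCat.overCat V}
    (j₁ : _root_.AlgSt.overMap c₁ ≅ k₁) (j₂ : _root_.AlgSt.overMap c₂ ≅ k₂)
    (i : BasedFunctor.comp k₁ yV ≅ BasedFunctor.comp k₂ yV)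
    (p : Points (_root_.FibCat.fp (BasedFunctor.comp k₁ yV) f)) {z z' : AlgSp.Points D.F.obj}
    (hp₁ : Points.map (leftMap k₁ yV f) p = D.toFp z)
    (hp₂ : Points.map (leftMap k₂ yV f) (Points.map (Fp.congr i (Iso.refl f)) p) = D.toFp z')
    (hz : z ∈ O) : z' ∈ O := by
  obtain ⟨φ, hφa, hφ⟩ := (((D.bc c₁).congr (whiskerRightIso j₁ yV)).congr i).exists_iso
    ((D.bc c₂).congr (whiskerRightIso j₂ yV))
  obtain ⟨w, hw⟩ := ((D.bc c₁).congr (whiskerRightIso j₁ yV)).toFp_bijective.2 p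
  rw [Fib.congr_a, Fib.congr_a, Fib.congr_a] at hφa
  have hO₁ := hO.bc hPi hQb h₄ D hQ _ hc₁
  have hO₂ := (hO.bc hPi hQb h₄ D hQ _ hc₂).of_iso hPi (D.bc c₂).F.property (AlgSp.IsAlgSpace.yon_obj T) φ
  erw [hφa] at hO₂
  have e₁ := D.toFp_bijective.1 (((toFp_snd D c₁ j₁ w).trans (congrArg _ hw)).trans hp₁)
  have e₂ := D.toFp_bijective.1 (((toFp_snd D c₂ j₂ (AlgSp.Points.map φ.hom w)).trans
    (congrArg _ ((hφ w).trans ((((D.bc c₁).congr (whiskerRightIso j₁ yV)).congr_toFp i w).trans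
      (congrArg _ hw))))).trans hp₂)
  have hmem : w ∈ AlgSp.Points.map (pullback.snd ((AlgSp.yon S).map c₁) D.a) ⁻¹' O := by
    rw [Set.mem_preimage, e₁]
    exact hz
  rw [hO₁.unique (D.bc c₁).F.property hO₂] at hmem
  rw [← e₂]
  exact hmem

theorem preimage_image_of_isLargest (h𝒳 : IsAlgStack Scheme.fppfPrecoverage 𝒳)
    (h𝒴 : IsAlgStack Scheme.fppfPrecoverage 𝒴) (hPi : IsoInvariant P) (hQb : StableSp Q)
    (h₂ : ∀ (X Y : AlgSp.Space S) (g : X ⟶ Y), AlgSp.LocP @Smooth g.hom → R g.hom) (h₄ : H4 P Q R)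
    {V : Over S} (yV : _root_.FibCat.overCat V ⥤ᵇ 𝒴) (hsm : RepByAlgSpWith (AlgSp.LocP @Smooth) yV)
    (D : Fib f yV) (hQ : Q D.a) {O : Set (AlgSp.Points D.F.obj)} (hO : IsLargest P D.a O) :
    D.toX ⁻¹' (D.toX '' O) = O := by
  refine Set.Subset.antisymm ?_ (Set.subset_preimage_image _ _)
  rintro z' ⟨z, hz, hzz'⟩
  have g𝒳 := h𝒳.isStack.1
  have g𝒴 := h𝒴.isStack.1
  have g𝒜 := Fp.isFibGrpd (F := yV) (G := f) (isFibGrpd_overCat V) g𝒳 g𝒴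
  obtain ⟨ω, hω₁, hω₂⟩ := exists_points_fp g𝒜 g𝒜 g𝒳 (_root_.FibCat.fpSnd yV f) (_root_.FibCat.fpSnd yV f)
    (D.toFp z) (D.toFp z') hzz'
  obtain ⟨T, L, hL, hc₁, hc₂⟩ := exists_pair_chart h₂ yV hsm
  obtain ⟨p, hp₁, hp₂⟩ := exists_point_of_pairBase f yV g𝒳 g𝒴 L ω (hL _)
  exact mem_of_pair hPi hQb h₄ D hQ hO hc₁ hc₂ (isoOverMap _).symm (isoOverMap _).symm
    (whiskerLeftIso L (_root_.FibCat.fpIso yV yV)) p (hp₁.trans hω₁) (hp₂.trans hω₂) hz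

end GrothLib.AlgSt.LargestOpen
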