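import Groth.Agent.Lib.AlgSt.LargestOpen.Fib
import Groth.Agent.Lib.AlgSt.LargestOpen.Largest

/-!
# Fibres of a substack
-/

set_option backward.isDefEq.respectTransparency false
set_option backward.isDefEq.respectTransparency.types false

universe u

open CategoryTheory CategoryTheory.Limits AlgebraicGeometry Opposite

namespace GrothLib.AlgSt.LargestOpen

open _root_.AlgSt GrothLib.FibCat

variable {S : Scheme.{u}} {𝒳 𝒴 : _root_.AlgSt.Cat S} {f : 𝒳 ⥤ᵇ 𝒴} {T : Over S}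
  {y : _root_.FibCat.overCat T ⥤ᵇ 𝒴} {P : MorphismProperty (AlgSp.Sp S)}

theorem Fib.mem (hPi : IsoInvariant P) (D : Fib f y) (h : HasRep P (_root_.FibCat.fpFst y f)) : P D.a :=
  HasRep.mem h hPi D.F D.e D.he

theorem spMapOfOver_pasteComp {ℬ : _root_.AlgSt.Cat S} (incl : ℬ ⥤ᵇ 𝒳) (D : Fib f y) {F₂ : AlgSp.Space S}
    (e₂ : ofSp F₂.obj ⥤ᵇ _root_.FibCat.fp (_root_.FibCat.fpSnd y f) incl) (b : F₂.obj ⟶ D.F.obj)
    (iG : BasedFunctor.comp e₂ (_root_.FibCat.fpFst (_root_.FibCat.fpSnd y f) incl) ≅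
      BasedFunctor.comp (ofSpMap b) D.e) :
    spMapOfOver (BasedFunctor.comp (BasedFunctor.comp e₂ (Fp.pasteComp incl f y))
      (_root_.FibCat.fpFst y (BasedFunctor.comp incl f))) = b ≫ D.a := by
  have h1 := spMapOfOver_congr (whiskerRightIso iG (_root_.FibCat.fpFst y f))
  have h2 := spMapOfOver_ofSpMap_comp b (BasedFunctor.comp D.e (_root_.FibCat.fpFst y f))
  exact h1.trans h2

/-- The fibre of an open substack is the corresponding open subspace. -/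
theorem Fib.exists_sub (h𝒳 : IsAlgStack Scheme.fppfPrecoverage 𝒳) (h𝒴 : _root_.FibCat.IsFibGrpd 𝒴.p)
    (D : Fib f y) {Q₁ : 𝒳.obj → Prop} (hQ₁ : IsOpenSubstack 𝒳 Q₁ Scheme.fppfPrecoverage) :
    ∃ (D₂ : Fib (BasedFunctor.comp (subIncl 𝒳 Q₁) f) y) (b : D₂.F.obj ⟶ D.F.obj),
      AlgSp.RepWith @IsOpenImmersion b ∧ D₂.a = b ≫ D.a ∧
      Set.range (AlgSp.Points.map b) = D.toX ⁻¹' Set.range (Points.map (subIncl 𝒳 Q₁)) := by
  have g𝒳 := h𝒳.isStack.1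
  have g₁ := hQ₁.2.1.isStack.1
  have g𝒜 := Fp.isFibGrpd (F := y) (G := f) (isFibGrpd_overCat T) g𝒳 h𝒴
  obtain ⟨F₂, e₂, he₂⟩ := repByAlgSp_fp_of_repByAlgSp1 g₁ g𝒳 (subIncl 𝒳 Q₁) (_root_.FibCat.fpSnd y f)
    (repByAlgSp1_of_repByAlgSpWith hQ₁.2.2) ⟨D.F, D.e, D.he⟩
  obtain ⟨e₁', he₁', ⟨η⟩, ⟨ε⟩⟩ := IsEquivOver.symm D.he
  let Φ := BasedFunctor.comp (BasedFunctor.comp e₂ (_root_.FibCat.fpFst (_root_.FibCat.fpSnd y f) (subIncl 𝒳 Q₁))) e₁'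
  let b : F₂.obj ⟶ D.F.obj := spHom Φ
  let iG : BasedFunctor.comp e₂ (_root_.FibCat.fpFst (_root_.FibCat.fpSnd y f) (subIncl 𝒳 Q₁)) ≅
      BasedFunctor.comp (ofSpMap b) D.e :=
    (whiskerLeftIso (BasedFunctor.comp e₂ (_root_.FibCat.fpFst (_root_.FibCat.fpSnd y f) (subIncl 𝒳 Q₁))) ε).symm ≪≫
      whiskerRightIso (isoOfSpHom Φ) D.e
  have hb : AlgSp.RepWith @IsOpenImmersion b := mem_of_repByAlgSpWith (detectedBySchemes_repWith _)
    isoInvariant_of_respectsIso hQ₁.2.2 _ D.F D.e D.he F₂ e₂ he₂ b iG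
  refine ⟨⟨F₂, BasedFunctor.comp e₂ (Fp.pasteComp (subIncl 𝒳 Q₁) f y),
    IsEquivOver.comp he₂ (Fp.isEquivOver_pasteComp _ _ _)⟩, b, hb, ?_, ?_⟩
  · exact spMapOfOver_pasteComp (subIncl 𝒳 Q₁) D e₂ b iG
  · have key : ∀ r : Points (ofSp F₂.obj), D.toFp (AlgSp.Points.map b (toSpPoints r)) =
        Points.map (_root_.FibCat.fpFst (_root_.FibCat.fpSnd y f) (subIncl 𝒳 Q₁)) (Points.map e₂ r) := fun r => by
      rw [← toSpPoints_map, Fib.toFp_toSpPoints, ← points_map_comp, ← points_map_comp, points_map_congr iG]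
    apply Set.Subset.antisymm
    · rintro _ ⟨z, rfl⟩
      obtain ⟨r, rfl⟩ := toSpPoints_bijective.2 z
      refine ⟨Points.map (_root_.FibCat.fpSnd (_root_.FibCat.fpSnd y f) (subIncl 𝒳 Q₁)) (Points.map e₂ r), ?_⟩
      rw [Fib.toX, key, ← points_map_comp, ← points_map_comp _ (_root_.FibCat.fpSnd y f)]
      exact (points_map_congr (_root_.FibCat.fpIso _ _) _).symm
    · rintro z ⟨w, hw⟩
      obtain ⟨q, hq, -⟩ := exists_points_fp g₁ g𝒜 g𝒳 (subIncl 𝒳 Q₁) (_root_.FibCat.fpSnd y f) (D.toFp z) w hw.symm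
      obtain ⟨r, rfl⟩ := (points_map_bijective_of_isEquivOver (isFibGrpd_ofSp F₂.obj) e₂ he₂).2 q
      exact ⟨toSpPoints r, D.toFp_bijective.1 ((key r).trans hq)⟩

theorem Fib.hasRep_sub_iff (h𝒳 : IsAlgStack Scheme.fppfPrecoverage 𝒳) (h𝒴 : _root_.FibCat.IsFibGrpd 𝒴.p)
    (hPi : IsoInvariant P) (D : Fib f y) {Q₁ : 𝒳.obj → Prop} (hQ₁ : IsOpenSubstack 𝒳 Q₁ Scheme.fppfPrecoverage) :
    HasRep P (_root_.FibCat.fpFst y (BasedFunctor.comp (subIncl 𝒳 Q₁) f)) ↔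
      P (GrothLib.AlgSp.openSubι D.F.obj (D.toX ⁻¹' Set.range (Points.map (subIncl 𝒳 Q₁))) ≫ D.a) := by
  obtain ⟨D₂, b, hb, ha, hr⟩ := D.exists_sub h𝒳 h𝒴 hQ₁
  have hO := D.isOpen_preimage_toX h𝒳 (isOpen_range_of_isOpenSubstack h𝒳 hQ₁)
  have hY := AlgSp.IsAlgSpace.yon_obj T
  have hr' := hr.trans GrothLib.AlgSp.range_openSubι.symm
  constructor
  · intro h
    exact mem_of_range_eq hPi D₂.F.property hY hb (GrothLib.AlgSp.repWith_openSubι hO) hr'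
      (ha ▸ D₂.mem hPi h)
  · intro h
    refine ⟨D₂.F, D₂.e, D₂.he, ?_⟩
    change P D₂.a
    rw [ha]
    exact mem_of_range_eq hPi (GrothLib.AlgSp.isAlgSpace_openSub D.F.property hO) hY
      (GrothLib.AlgSp.repWith_openSubι hO) hb hr'.symm h

end GrothLib.AlgSt.LargestOpen
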