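import Groth.Agent.Lib.AlgSt.LargestOpen.Sub
import Groth.Agent.Lib.AlgSt.DescRep

/-!
# Transport of open conditions between fibres
-/

set_option backward.isDefEq.respectTransparency false
set_option backward.isDefEq.respectTransparency.types false

universe u

open CategoryTheory CategoryTheory.Limits AlgebraicGeometry Opposite

namespace GrothLib.AlgSt.LargestOpen

open _root_.AlgSt GrothLib.FibCat GrothLib.AlgSp

variable {S : Scheme.{u}} {𝒳 𝒴 : _root_.AlgSt.Cat S} {f : 𝒳 ⥤ᵇ 𝒴} {T T' : Over S}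
  {y : _root_.FibCat.overCat T ⥤ᵇ 𝒴} {P Q R : MorphismProperty (AlgSp.Sp S)} {W : Set (Points 𝒳)}

/-- `P` holds on the part of the fibre over an open set of points. -/
def MemOn (P : MorphismProperty (AlgSp.Sp S)) (W : Set (Points 𝒳)) (D : Fib f y) : Prop :=
  P (openSubι D.F.obj (D.toX ⁻¹' W) ≫ D.a)

theorem MemOn.congr (D : Fib f y) {y' : _root_.FibCat.overCat T ⥤ᵇ 𝒴} (i : y ≅ y') :
    MemOn P W (D.congr i) ↔ MemOn P W D := by
  have e : (D.congr i).toX = D.toX := funext (D.congr_toX i)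
  unfold MemOn
  rw [D.congr_a, e]
  rfl

theorem MemOn.of_iso (h𝒳 : IsAlgStack Scheme.fppfPrecoverage 𝒳) (hPi : IsoInvariant P) (hW : IsOpen W)
    (D D' : Fib f y) (h : MemOn P W D) : MemOn P W D' := by
  obtain ⟨φ, ha, hφ⟩ := D'.exists_iso D
  have hO := D.isOpen_preimage_toX h𝒳 hW
  have hO' := D'.isOpen_preimage_toX h𝒳 hW
  unfold MemOn
  rw [← ha, ← Category.assoc]
  refine mem_of_range_eq hPi (isAlgSpace_openSub D.F.property hO) (AlgSp.IsAlgSpace.yon_obj T)
    (repWith_openSubι hO) (repWith_comp (repWith_openSubι hO') (repWith_iso φ.hom)) ?_ h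
  rw [range_openSubι, show AlgSp.Points.map (openSubι D'.F.obj (D'.toX ⁻¹' W) ≫ φ.hom) =
    AlgSp.Points.map φ.hom ∘ AlgSp.Points.map (openSubι D'.F.obj (D'.toX ⁻¹' W)) from
    funext (AlgSp.Points.map_comp _ _), Set.range_comp, range_openSubι]
  apply Set.Subset.antisymm
  · intro x hx
    refine ⟨AlgSp.Points.map φ.inv x, ?_, by rw [← AlgSp.Points.map_comp, Iso.inv_hom_id, AlgSp.Points.map_id]⟩
    rw [Set.mem_preimage] at hx ⊢
    rwa [Fib.toX, ← hφ, ← AlgSp.Points.map_comp, Iso.inv_hom_id, AlgSp.Points.map_id]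
  · rintro _ ⟨z, hz, rfl⟩
    rw [Set.mem_preimage, Fib.toX, hφ]
    exact hz

section BaseChange

variable (D : Fib f y) (c : T' ⟶ T)

theorem bc_open_square (O : Set (AlgSp.Points D.F.obj)) :
    IsPullback (pullback.fst (openSubι D.F.obj O) (pullback.snd ((AlgSp.yon S).map c) D.a))
      (pullback.snd (openSubι D.F.obj O) (pullback.snd ((AlgSp.yon S).map c) D.a) ≫
        pullback.fst ((AlgSp.yon S).map c) D.a)
      (openSubι D.F.obj O ≫ D.a) ((AlgSp.yon S).map c) :=
  (IsPullback.of_hasPullback (openSubι D.F.obj O) (pullback.snd ((AlgSp.yon S).map c) D.a)).paste_vert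
    (IsPullback.of_hasPullback ((AlgSp.yon S).map c) D.a).flip

theorem range_bc_open (hO : IsOpen (D.toX ⁻¹' W)) :
    Set.range (AlgSp.Points.map (pullback.snd (openSubι D.F.obj (D.toX ⁻¹' W))
      (pullback.snd ((AlgSp.yon S).map c) D.a))) = (D.bc c).toX ⁻¹' W := by
  let sq := IsPullback.of_hasPullback (openSubι D.F.obj (D.toX ⁻¹' W)) (pullback.snd ((AlgSp.yon S).map c) D.a)
  apply Set.Subset.antisymm
  · rintro _ ⟨x, rfl⟩
    rw [Set.mem_preimage, D.bc_toX c, ← AlgSp.Points.map_comp]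
    erw [← pullback.condition, AlgSp.Points.map_comp]
    exact (range_openSubι (W := D.toX ⁻¹' W)).subset ⟨_, rfl⟩
  · intro x hx
    rw [Set.mem_preimage, D.bc_toX c] at hx
    obtain ⟨z, hz⟩ := (range_openSubι (W := D.toX ⁻¹' W)).symm.subset
      (show AlgSp.Points.map (pullback.snd ((AlgSp.yon S).map c) D.a) x ∈ D.toX ⁻¹' W from hx)
    obtain ⟨p, -, hp⟩ := exists_of_isPullback sq hz
    exact ⟨p, hp⟩

theorem MemOn.bc (h𝒳 : IsAlgStack Scheme.fppfPrecoverage 𝒳) (hPb : StableSp P) (hW : IsOpen W)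
    (h : MemOn P W D) : MemOn P W (D.bc c) := by
  have hO := D.isOpen_preimage_toX h𝒳 hW
  have hO' := (D.bc c).isOpen_preimage_toX h𝒳 hW
  have hT := AlgSp.IsAlgSpace.yon_obj T
  have hT' := AlgSp.IsAlgSpace.yon_obj T'
  have hA := isAlgSpace_pullback' D.F.property (isAlgSpace_openSub D.F.property hO) (D.bc c).F.property
    (openSubι D.F.obj (D.toX ⁻¹' W)) (pullback.snd ((AlgSp.yon S).map c) D.a)
  unfold MemOn
  rw [D.bc_a c]
  exact mem_of_range_eq (isoInvariant_of_stableSp hPb) hA hT'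
    (repWith_of_isPullback (IsPullback.of_hasPullback _ _) (repWith_openSubι hO)) (repWith_openSubι hO')
    ((range_bc_open D c hO).trans range_openSubι.symm)
    (hPb (isAlgSpace_openSub D.F.property hO) hT hA hT' _ _ _ _ (bc_open_square D c _) h)

theorem MemOn.descend (h𝒳 : IsAlgStack Scheme.fppfPrecoverage 𝒳) (hPi : IsoInvariant P)
    (hd : DescendsToSchemes P) (hW : IsOpen W) (h1 : Flat c.left) (h2 : LocallyOfFinitePresentation c.left)
    (h3 : Surjective c.left) (h : MemOn P W (D.bc c)) : MemOn P W D := by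
  have hO := D.isOpen_preimage_toX h𝒳 hW
  have hO' := (D.bc c).isOpen_preimage_toX h𝒳 hW
  have hT := AlgSp.IsAlgSpace.yon_obj T
  have hT' := AlgSp.IsAlgSpace.yon_obj T'
  have hA := isAlgSpace_pullback' D.F.property (isAlgSpace_openSub D.F.property hO) (D.bc c).F.property
    (openSubι D.F.obj (D.toX ⁻¹' W)) (pullback.snd ((AlgSp.yon S).map c) D.a)
  unfold MemOn at h
  rw [D.bc_a c] at h
  have h' := mem_of_range_eq hPi (isAlgSpace_openSub (D.bc c).F.property hO') hT' (repWith_openSubι hO')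
    (repWith_of_isPullback (IsPullback.of_hasPullback _ _) (repWith_openSubι hO))
    (range_openSubι.trans (range_bc_open D c hO).symm) h
  refine hd (isAlgSpace_openSub D.F.property hO) c h1 h2 h3 _ ?_
  rw [← (bc_open_square D c _).flip.isoPullback_inv_fst]
  exact hPi hA hT' _ _ h'

end BaseChange

end GrothLib.AlgSt.LargestOpen
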